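import Groth.Agent.WeakAssLib.Stalk
import Groth.Agent.RefStalk.Refl
import Groth.Agent.DivPart.Basic
import Groth.Agent.DivPart.Alg
import Groth.Prelude.Def_FlatMod2
import Mathlib

/-!
Any sheaf of ideals on a Noetherian scheme is generated at every stalk by finitely many local sections.
-/

set_option autoImplicit false
set_option linter.style.haveILetI false
set_option backward.isDefEq.respectTransparency false

universe u

open CategoryTheory AlgebraicGeometry TopologicalSpace Opposite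
open Groth.Agent.QC (res)
open Groth.Agent.WeakAssLib (mgerm mgerm_smul mgerm_res stalkHom stalkHom_germ stalkHom_smul stalkHom_injective)

noncomputable section

namespace Groth.Agent.SubIdeal

variable {X : Scheme.{u}} (G : X.Modules)

theorem exists_equiv (x : X) :
    ∃ e : X.presheaf.stalk x ≃ₗ[X.presheaf.stalk x] (Coh.structureModule X).presheaf.stalk x,
      ∀ (U : X.Opens) (hU : x ∈ U) (r : Γ(X, U)),
        e (X.presheaf.germ U x hU r) = mgerm (Coh.structureModule X) hU (r : Γ(Coh.structureModule X, U)) := by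
  obtain ⟨e, he⟩ := RefStalk.exists_structStalk x
  refine ⟨e, fun U hU r => ?_⟩
  rw [he, ← mgerm_res (Coh.structureModule X) (le_top : U ≤ ⊤) hU, ← mgerm_smul]
  congr 1
  show r * Groth.Agent.QC.resO X (le_top : U ≤ ⊤) 1 = r
  rw [map_one, mul_one]

theorem span_iff {x : X} {U V : X.Opens} (hU : x ∈ U) (hV : x ∈ V) {ι : Type*} (a : ι → Γ(X, U)) (z : Γ(X, V)) :
    mgerm (Coh.structureModule X) hV (z : Γ(Coh.structureModule X, V)) ∈
        Submodule.span (X.presheaf.stalk x) (Set.range fun g => mgerm (Coh.structureModule X) hU (a g)) ↔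
      X.presheaf.germ V x hV z ∈ Ideal.span (Set.range fun g => X.presheaf.germ U x hU (a g)) := by
  obtain ⟨e, he⟩ := exists_equiv x
  have h : (Set.range fun g => mgerm (Coh.structureModule X) hU (a g)) =
      e.toLinearMap '' (Set.range fun g => X.presheaf.germ U x hU (a g)) := by
    rw [← Set.range_comp]
    exact congrArg Set.range (funext fun g => (he U hU (a g)).symm)
  rw [h, ← Submodule.map_span, ← he V hV z]
  exact ⟨fun ⟨w, hw, hwe⟩ => e.injective hwe ▸ hw, fun hw => Submodule.mem_map_of_mem hw⟩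

/-- the germs at `x` of a finite family of local sections -/
def germs (T : Set (Σ U : X.Opens, Γ(G, U))) (x : X) : Set (G.presheaf.stalk x) :=
  {g | ∃ p ∈ T, ∃ hx : x ∈ p.1, mgerm G hx p.2 = g}

theorem span_mono {T T' : Set (Σ U : X.Opens, Γ(G, U))} (h : T ⊆ T') (x : X)
    (ht : Submodule.span (X.presheaf.stalk x) (germs G T x) = ⊤) :
    Submodule.span (X.presheaf.stalk x) (germs G T' x) = ⊤ :=
  top_le_iff.mp (ht ▸ Submodule.span_mono fun _ ⟨p, hp, hx, e⟩ => ⟨p, h hp, hx, e⟩)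

variable (ι : G ⟶ Coh.structureModule X) [Mono ι]

/-- the inclusion on stalks, as a linear map -/
def incl (x : X) : G.presheaf.stalk x →ₗ[X.presheaf.stalk x] (Coh.structureModule X).presheaf.stalk x where
  toFun := stalkHom ι x
  map_add' := map_add _
  map_smul' := stalkHom_smul ι x

include ι in
theorem exists_near [IsLocallyNoetherian X] (ξ : X) :
    ∃ (N : X.Opens) (T : Set (Σ U : X.Opens, Γ(G, U))), ξ ∈ N ∧ T.Finite ∧
      ∀ x ∈ N, ξ ⤳ x → Submodule.span (X.presheaf.stalk x) (germs G T x) = ⊤ := by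
  classical
  obtain ⟨e, -⟩ := exists_equiv (X := X) ξ
  let e₀ := e.symm
  haveI : IsNoetherianRing (X.presheaf.stalk ξ) := inferInstance
  haveI : Module.Finite (X.presheaf.stalk ξ) (G.presheaf.stalk ξ) :=
    Module.Finite.of_injective (e₀.toLinearMap.comp (incl G ι ξ))
      (e₀.injective.comp (stalkHom_injective ι ξ))
  obtain ⟨S, hS⟩ := (inferInstance : Module.Finite (X.presheaf.stalk ξ) (G.presheaf.stalk ξ)).fg_top
  choose U hU s hs using fun g : S => G.presheaf.exists_germ_eq (x := ξ) g.1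
  obtain ⟨W, hW, hξW, hWle⟩ := exists_isAffineOpen_mem_and_subset (X := X) (x := ξ)
    (U := ⟨⋂ g, (U g : Set X), isOpen_iInter_of_finite fun g => (U g).2⟩)
    (show ξ ∈ (⋂ g, (U g : Set X)) from Set.mem_iInter.mpr hU)
  have hWU : ∀ g, W ≤ U g := fun g y hy => Set.mem_iInter.mp (hWle hy) g
  let W' : X.affineOpens := ⟨W, hW⟩
  haveI : IsNoetherianRing Γ(X, W) := IsLocallyNoetherian.component_noetherian W'
  let σ : S → Γ(G, W) := fun g => res G (hWU g) (s g)
  let a : S → Γ(X, W) := fun g => ι.app W (σ g)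
  let I : Ideal Γ(X, W) := Ideal.span (Set.range a)
  letI := TopCat.Presheaf.algebra_section_stalk X.presheaf (⟨ξ, hξW⟩ : W)
  haveI := hW.isLocalization_stalk ⟨ξ, hξW⟩
  let J : Ideal Γ(X, W) := (I.map (algebraMap Γ(X, W) (X.presheaf.stalk ξ))).comap (algebraMap _ _)
  obtain ⟨w, hw, hwJ⟩ := DivPart.exists_mul_le (S := X.presheaf.stalk ξ) (DivPart.pr W' (x := ξ) hξW)
    (IsNoetherian.noetherian J) (I := I) Ideal.map_comap_le
  refine ⟨X.basicOpen w, Set.range (fun g => (⟨W, σ g⟩ : Σ U : X.Opens, Γ(G, U))),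
    (WeakAssLib.mem_primeIdealOf hW hξW w).mpr hw, Set.finite_range _, fun x hx hξx => ?_⟩
  have hxW : x ∈ W := X.basicOpen_le w hx
  refine Submodule.eq_top_iff'.mpr fun g => ?_
  obtain ⟨V₀, hV₀, t₀, ht₀⟩ := G.presheaf.exists_germ_eq (x := x) g
  obtain ⟨V, hV, hxV, hVle⟩ := exists_isAffineOpen_mem_and_subset (X := X) (x := x) (U := V₀ ⊓ W) ⟨hV₀, hxW⟩
  obtain ⟨f, hfV, hxf⟩ := hW.exists_basicOpen_le (⟨x, hxV⟩ : V) hxW
  -- write the function on a basic open as a quotient
  let t : Γ(G, X.basicOpen f) := res G (hfV.trans (hVle.trans inf_le_left)) t₀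
  have ht : mgerm G hxf t = g := (mgerm_res G _ hxf t₀).trans ht₀
  haveI := hW.isLocalization_basicOpen f
  obtain ⟨⟨b, ⟨_, n, rfl⟩⟩, hb⟩ := IsLocalization.surj (Submonoid.powers f) (show Γ(X, X.basicOpen f) from ι.app _ t)
  simp only at hb
  have hξf : ξ ∈ X.basicOpen f := hξx.mem_open (X.basicOpen f).2 hxf
  let K := Ideal.span (Set.range fun g => (X.presheaf.germ W x hxW) (a g))
  -- at the generisation the section lies in the ideal
  have hbJ : b ∈ J := by
    have h1 : incl G ι ξ (mgerm G hξf t) ∈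
        Submodule.map (incl G ι ξ) (Submodule.span _ (S : Set (G.presheaf.stalk ξ))) :=
      Submodule.mem_map_of_mem (hS ▸ Submodule.mem_top)
    rw [Submodule.map_span] at h1
    have h2 : mgerm (Coh.structureModule X) hξf (ι.app _ t) ∈
        Submodule.span (X.presheaf.stalk ξ) (Set.range fun g => mgerm (Coh.structureModule X) hξW (a g)) := by
      rw [← stalkHom_germ]
      refine Submodule.span_mono ?_ h1
      rintro _ ⟨v, hv, rfl⟩
      refine ⟨⟨v, hv⟩, ?_⟩
      show mgerm (Coh.structureModule X) hξW (ι.app W (σ ⟨v, hv⟩)) = stalkHom ι ξ v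
      rw [← stalkHom_germ, mgerm_res]
      exact congrArg _ (hs ⟨v, hv⟩)
    rw [Ideal.mem_comap]
    have h3 : (X.presheaf.germ (X.basicOpen f) ξ hξf) (show Γ(X, X.basicOpen f) from ι.app _ t) ∈
        I.map (algebraMap Γ(X, W) (X.presheaf.stalk ξ)) := by
      rw [Ideal.map_span, ← Set.range_comp]
      exact (span_iff hξW hξf a _).mp h2
    have h4 := congrArg (fun z => (X.presheaf.germ (X.basicOpen f) ξ hξf) z) hb
    simp only [map_mul] at h4
    have h5 : ∀ c : Γ(X, W), (X.presheaf.germ (X.basicOpen f) ξ hξf) (algebraMap Γ(X, W) Γ(X, X.basicOpen f) c) =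
        algebraMap Γ(X, W) (X.presheaf.stalk ξ) c := fun c =>
      TopCat.Presheaf.germ_res_apply _ (homOfLE (X.basicOpen_le f)) _ hξf c
    rw [h5 b] at h4
    rw [← h4]
    exact Ideal.mul_mem_right _ _ h3
  have hxI : (X.presheaf.germ (X.basicOpen f) x hxf) (show Γ(X, X.basicOpen f) from ι.app _ t) ∈ K := by
    have h4 := congrArg (fun z => (X.presheaf.germ (X.basicOpen f) x hxf) z) hb
    simp only [map_mul] at h4
    have h5 : ∀ c : Γ(X, W), (X.presheaf.germ (X.basicOpen f) x hxf) (algebraMap Γ(X, W) Γ(X, X.basicOpen f) c) =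
        (X.presheaf.germ W x hxW) c := fun c =>
      TopCat.Presheaf.germ_res_apply _ (homOfLE (X.basicOpen_le f)) _ hxf c
    rw [h5 b, h5 (f ^ n)] at h4
    have hu : IsUnit ((X.presheaf.germ W x hxW) (f ^ n)) := by
      rw [map_pow]; exact ((X.mem_basicOpen f x hxW).mp hxf).pow n
    have hb' : (X.presheaf.germ W x hxW) b ∈ K := by
      have h6 := Ideal.mem_map_of_mem (X.presheaf.germ W x hxW).hom (hwJ b hbJ)
      rw [Ideal.map_span, ← Set.range_comp, map_mul] at h6
      exact (Ideal.unit_mul_mem_iff_mem _ ((X.mem_basicOpen w x hxW).mp hx)).mp h6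
    rw [← h4] at hb'
    exact (Ideal.mul_unit_mem_iff_mem _ hu).mp hb'
  have hin : incl G ι x g ∈ Submodule.map (incl G ι x) (Submodule.span (X.presheaf.stalk x)
      (germs G (Set.range fun g => (⟨W, σ g⟩ : Σ U : X.Opens, Γ(G, U))) x)) := by
    rw [Submodule.map_span, ← ht]
    show stalkHom ι x (mgerm G hxf t) ∈ _
    rw [stalkHom_germ]
    refine Submodule.span_mono ?_ ((span_iff hxW hxf a _).mpr hxI)
    rintro _ ⟨i, rfl⟩
    exact ⟨mgerm G hxW (σ i), ⟨⟨W, σ i⟩, ⟨i, rfl⟩, hxW, rfl⟩, stalkHom_germ ι hxW (σ i)⟩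
  obtain ⟨g', hg', he⟩ := hin
  rwa [stalkHom_injective ι x he] at hg'

include ι in
theorem exists_finite [IsNoetherian X] :
    ∃ T : Set (Σ U : X.Opens, Γ(G, U)), T.Finite ∧
      ∀ x : X, Submodule.span (X.presheaf.stalk x) (germs G T x) = ⊤ := by
  suffices H : ∀ Z : Closeds X, ∃ T : Set (Σ U : X.Opens, Γ(G, U)), T.Finite ∧
      ∀ x ∈ Z, Submodule.span (X.presheaf.stalk x) (germs G T x) = ⊤ by
    obtain ⟨T, hT, h⟩ := H ⊤
    exact ⟨T, hT, fun x => h x trivial⟩
  intro Z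
  induction Z using WellFoundedLT.induction with
  | ind Z ih => ?_
  rcases (Z : Set X).eq_empty_or_nonempty with he | hne
  · exact ⟨∅, Set.finite_empty, fun x hx => absurd (he ▸ hx : x ∈ (∅ : Set X)) (Set.notMem_empty x)⟩
  by_cases hirr : IsPreirreducible (Z : Set X)
  · obtain ⟨ξ, hξ⟩ := QuasiSober.sober (show IsIrreducible (Z : Set X) from ⟨hne, hirr⟩) Z.2
    obtain ⟨N, T, hξN, hT, hN⟩ := exists_near G ι ξ
    let Z' : Closeds X := ⟨(Z : Set X) ∩ (N : Set X)ᶜ, Z.2.inter N.2.isClosed_compl⟩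
    have hlt : Z' < Z := lt_of_le_of_ne (fun x hx => hx.1) fun e => by
      have : ξ ∈ Z' := e ▸ (hξ.mem : ξ ∈ (Z : Set X))
      exact this.2 hξN
    obtain ⟨T', hT', hZ'⟩ := ih Z' hlt
    refine ⟨T ∪ T', hT.union hT', fun x hx => ?_⟩
    by_cases hxN : x ∈ N
    · exact span_mono G Set.subset_union_left x (hN x hxN (hξ.specializes hx))
    · exact span_mono G Set.subset_union_right x (hZ' x ⟨hx, hxN⟩)
  · rw [isPreirreducible_iff_isClosed_union_isClosed] at hirr
    push Not at hirr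
    obtain ⟨z₁, z₂, h₁, h₂, hsub, hn₁, hn₂⟩ := hirr
    let Z₁ : Closeds X := ⟨(Z : Set X) ∩ z₁, Z.2.inter h₁⟩
    let Z₂ : Closeds X := ⟨(Z : Set X) ∩ z₂, Z.2.inter h₂⟩
    have hlt₁ : Z₁ < Z := lt_of_le_of_ne (fun x hx => hx.1) fun e => hn₁ fun x hx =>
      ((e ▸ hx : x ∈ Z₁)).2
    have hlt₂ : Z₂ < Z := lt_of_le_of_ne (fun x hx => hx.1) fun e => hn₂ fun x hx =>
      ((e ▸ hx : x ∈ Z₂)).2
    obtain ⟨T₁, hT₁, hZ₁⟩ := ih Z₁ hlt₁
    obtain ⟨T₂, hT₂, hZ₂⟩ := ih Z₂ hlt₂
    refine ⟨T₁ ∪ T₂, hT₁.union hT₂, fun x hx => ?_⟩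
    rcases hsub hx with h | h
    · exact span_mono G Set.subset_union_left x (hZ₁ x ⟨hx, h⟩)
    · exact span_mono G Set.subset_union_right x (hZ₂ x ⟨hx, h⟩)

end Groth.Agent.SubIdeal
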